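import Groth.Agent.AModX.Res
import Groth.Agent.ExistEasy.PP.PullSec
import Groth.Agent.ExistEasy.PP.Hat
import Groth.Agent.QCoh.LocFree

/-!
# Frames of finite locally free modules
-/

universe u

set_option autoImplicit false
set_option linter.style.haveILetI false
set_option backward.isDefEq.respectTransparency false
set_option backward.isDefEq.respectTransparency.types false
set_option synthInstance.maxHeartbeats 400000

open CategoryTheory AlgebraicGeometry TopologicalSpace Opposite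

noncomputable section

namespace Groth.Agent.PinchHom

open Groth.Agent.AModX

variable {X X' : Scheme.{u}} {M : X.Modules} {n : ℕ}

/-- Sections freely generating the module over every smaller open. -/
def IsNFrame {U : X.Opens} (e : Fin n → Γ(M, U)) : Prop :=
  ∀ (V : X.Opens) (h : V ≤ U), Function.Bijective (fun c : Fin n → Γ(X, V) => ∑ i, c i • res M h (e i))

theorem comb_res {U V W : X.Opens} (e : Fin n → Γ(M, U)) (h : V ≤ U) (h' : W ≤ V) (c : Fin n → Γ(X, V)) :
    res M h' (∑ i, c i • res M h (e i)) = ∑ i, resR h' (c i) • res M (h'.trans h) (e i) := by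
  rw [map_sum]
  exact Finset.sum_congr rfl fun i _ => by rw [res_smul, res_res]

theorem isNFrame_of_local {U : X.Opens} (e : Fin n → Γ(M, U))
    (H : ∀ (V : X.Opens) (p : X), p ∈ V → V ≤ U → ∃ (W : X.Opens) (h : W ≤ U), p ∈ W ∧ W ≤ V ∧
      Function.Bijective (fun c : Fin n → Γ(X, W) => ∑ i, c i • res M h (e i))) : IsNFrame e := by
  have hinj : ∀ (V : X.Opens) (h : V ≤ U),
      Function.Injective (fun c : Fin n → Γ(X, V) => ∑ i, c i • res M h (e i)) := by
    intro V h c c' hc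
    funext i
    refine TopCat.Sheaf.eq_of_locally_eq' X.sheaf
      (fun p : V => (H V p.1 p.2 h).choose) V (fun p => homOfLE (H V p.1 p.2 h).choose_spec.choose_spec.2.1)
      (fun p hp => Opens.mem_iSup.2 ⟨⟨p, hp⟩, (H V p hp h).choose_spec.choose_spec.1⟩) _ _ fun p => ?_
    obtain ⟨hW, -, hWV, hb⟩ := (H V p.1 p.2 h).choose_spec
    have h1 := congrArg (res M hWV) hc
    simp only at h1
    rw [comb_res, comb_res] at h1
    exact congrFun (hb.1 (a₁ := fun i => resR hWV (c i)) (a₂ := fun i => resR hWV (c' i)) h1) i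
  intro V h
  refine ⟨hinj V h, fun x => ?_⟩
  have hloc : ∀ p : V, ∃ (W : X.Opens) (hWV : W ≤ V) (c : Fin n → Γ(X, W)), p.1 ∈ W ∧
      ∑ i, c i • res M (hWV.trans h) (e i) = res M hWV x := fun p => by
    obtain ⟨W, hW, hpW, hWV, hb⟩ := H V p.1 p.2 h
    obtain ⟨c, hc⟩ := hb.2 (res M hWV x)
    exact ⟨W, hWV, c, hpW, hc⟩
  choose W hWV c hpW hc using hloc
  have hglue : ∀ i, ∃ s : Γ(X, V), ∀ p, resR (hWV p) s = c p i := fun i => by
    obtain ⟨s, hs, -⟩ := TopCat.Sheaf.existsUnique_gluing' X.sheaf W V (fun p => homOfLE (hWV p))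
      (fun p hp => Opens.mem_iSup.2 ⟨⟨p, hp⟩, hpW _⟩) (fun p => c p i) (fun p q => by
        have hle : W p ⊓ W q ≤ V := inf_le_left.trans (hWV p)
        refine congrFun (hinj (W p ⊓ W q) (hle.trans h)
          (a₁ := fun j => resR inf_le_left (c p j)) (a₂ := fun j => resR inf_le_right (c q j)) ?_) i
        have h1 := congrArg (res M (inf_le_left : W p ⊓ W q ≤ W p)) (hc p)
        have h2 := congrArg (res M (inf_le_right : W p ⊓ W q ≤ W q)) (hc q)
        rw [comb_res, res_res] at h1 h2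
        exact h1.trans h2.symm)
    exact ⟨s, hs⟩
  choose s hs using hglue
  refine ⟨s, eq_of_locally _ _ fun p hp => ⟨W ⟨p, hp⟩, hWV _, hpW _, ?_⟩⟩
  show res M (hWV ⟨p, hp⟩) (∑ i, s i • res M h (e i)) = _
  rw [comb_res, ← hc ⟨p, hp⟩]
  exact Finset.sum_congr rfl fun i _ => by rw [hs]

/-- Base change of a basis of the sections over an affine. -/
theorem bijective_comb_pullSec (φ : X' ⟶ X) (hM : Coh.IsQCoh M) {W : X'.Opens} (hW : IsAffineOpen W)
    {V : X.Opens} (hV : IsAffineOpen V) (hle : W ≤ φ ⁻¹ᵁ V) (e : Fin n → Γ(M, V))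
    (he : Function.Bijective (fun c : Fin n → Γ(X, V) => ∑ i, c i • e i)) :
    Function.Bijective (fun c : Fin n → Γ(X', W) => ∑ i, c i • QCoh.pullSec φ M hle (e i)) := by
  letI : Algebra Γ(X, V) Γ(X', W) := (φ.appLE V W hle).hom.toAlgebra
  letI : Module Γ(X, V) Γ((Scheme.Modules.pullback φ).obj M, W) :=
    Module.compHom _ (φ.appLE V W hle).hom
  haveI : IsScalarTower Γ(X, V) Γ(X', W) Γ((Scheme.Modules.pullback φ).obj M, W) :=
    ⟨fun a b c => mul_smul ((φ.appLE V W hle).hom a) b c⟩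
  obtain ⟨l, hl, hbc⟩ := ExistEasy.exists_pullSec_baseChange φ hM hW hV hle
  let L : (Fin n → Γ(X, V)) →ₗ[Γ(X, V)] Γ(M, V) := Fintype.linearCombination Γ(X, V) e
  have hL : Function.Bijective L := by
    convert he using 1
    funext c
    exact Fintype.linearCombination_apply _ _ _
  let b : Module.Basis (Fin n) Γ(X, V) Γ(M, V) := Module.Basis.ofEquivFun (LinearEquiv.ofBijective L hL).symm
  have hb : ∀ i, b i = e i := fun i => by
    have : b i = L (Pi.single i 1) := by simp [b]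
    rw [this]
    simp [L, Fintype.linearCombination_apply_single]
  let b' := hbc.basis b
  have h2 : (fun c : Fin n → Γ(X', W) => ∑ i, c i • QCoh.pullSec φ M hle (e i)) = b'.equivFun.symm := by
    funext c
    rw [Module.Basis.equivFun_symm_apply]
    exact Finset.sum_congr rfl fun i _ => by rw [IsBaseChange.basis_apply, hb, hl]
  rw [h2]
  exact b'.equivFun.symm.bijective

theorem isNFrame_pullSec (φ : X' ⟶ X) (hM : Coh.IsQCoh M) {U : X.Opens} {e : Fin n → Γ(M, U)}
    (he : IsNFrame e) {U' : X'.Opens} (hle : U' ≤ φ ⁻¹ᵁ U) :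
    IsNFrame (M := (Scheme.Modules.pullback φ).obj M) (fun i => QCoh.pullSec φ M hle (e i)) := by
  refine isNFrame_of_local _ fun V p hp hVU => ?_
  obtain ⟨_, ⟨V₀, hV₀, rfl⟩, hpV₀, hV₀U⟩ :=
    X.isBasis_affineOpens.exists_subset_of_mem_open (hle (hVU hp)) U.2
  obtain ⟨_, ⟨W, hW, rfl⟩, hpW, hWle⟩ := X'.isBasis_affineOpens.exists_subset_of_mem_open
    (show p ∈ V ⊓ φ ⁻¹ᵁ V₀ from ⟨hp, hpV₀⟩) (V ⊓ φ ⁻¹ᵁ V₀).2
  have hWV : W ≤ V := fun q hq => (hWle hq).1
  have hW0 : W ≤ φ ⁻¹ᵁ V₀ := fun q hq => (hWle hq).2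
  refine ⟨W, hWV.trans hVU, hpW, hWV, ?_⟩
  have := bijective_comb_pullSec φ hM hW hV₀ hW0 (fun i => res M hV₀U (e i)) (he V₀ hV₀U)
  convert this using 1
  funext c
  refine Finset.sum_congr rfl fun i _ => ?_
  congr 1
  exact ExistEasy.pullSec_res φ M hV₀U (hWV.trans hVU) hle hW0 (e i)

/-- Finite locally free modules have frames near every point. -/
theorem exists_nframe (hM : FlatMod.IsFinLocFree M) (x : X) :
    ∃ (U : X.Opens) (n : ℕ) (e : Fin n → Γ(M, U)), x ∈ U ∧ IsNFrame e := by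
  obtain ⟨U, n, hxU, ⟨ei⟩⟩ := hM x
  obtain ⟨_, ⟨V, hV, rfl⟩, hxV, hle⟩ := X.isBasis_affineOpens.exists_subset_of_mem_open hxU U.2
  obtain ⟨l⟩ := QCoh.free_sections hV hle ei
  let E : Γ(M, V) ≃ₗ[Γ(X, V)] (Fin n → Γ(X, V)) :=
    l ≪≫ₗ Finsupp.domLCongr Equiv.ulift ≪≫ₗ Finsupp.linearEquivFunOnFinite Γ(X, V) Γ(X, V) (Fin n)
  let e : Fin n → Γ(M, V) := fun i => E.symm (Pi.single i 1)
  have hbV : Function.Bijective (fun c : Fin n → Γ(X, V) => ∑ i, c i • e i) := by
    have : (fun c : Fin n → Γ(X, V) => ∑ i, c i • e i) = E.symm := by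
      funext c
      conv_rhs => rw [pi_eq_sum_univ' c, map_sum]
      exact Finset.sum_congr rfl fun i _ => (map_smul E.symm _ _).symm
    rw [this]
    exact E.symm.bijective
  refine ⟨V, n, e, hxV, isNFrame_of_local e fun V' p hp hV' => ?_⟩
  obtain ⟨_, ⟨W, hW, rfl⟩, hpW, hWle⟩ := X.isBasis_affineOpens.exists_subset_of_mem_open hp V'.2
  have hWV : W ≤ V := le_trans (show W ≤ V' from hWle) hV'
  refine ⟨W, hWV, hpW, hWle, ?_⟩
  have hq := QCoh.isQCoh_of_isFinLocFree hM
  have h1 := bijective_comb_pullSec (𝟙 X) hq hW hV hWV e hbV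
  have h2 := ExistEasy.bijective_pullSec_of_isIso (𝟙 X) hq hW hW (le_refl W)
    (by
      have e0 : ∀ r : Γ(X, W), (𝟙 X : X ⟶ X).appLE W W (le_refl W) r = r := fun r => by
        simp only [Scheme.Hom.appLE, Scheme.Hom.id_app, Category.id_comp]
        exact resR_self r
      exact ⟨fun a b h => by rwa [e0, e0] at h, fun b => ⟨b, e0 b⟩⟩)
  have key : (fun c : Fin n → Γ(X, W) => ∑ i, c i • QCoh.pullSec (𝟙 X) M hWV (e i)) =
      QCoh.pullSec (𝟙 X) M (le_refl W) ∘ fun c : Fin n → Γ(X, W) => ∑ i, c i • res M hWV (e i) := by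
    funext c
    let P : Γ(M, W) →+ Γ((Scheme.Modules.pullback (𝟙 X)).obj M, W) :=
      AddMonoidHom.mk' (QCoh.pullSec (𝟙 X) M (le_refl W)) (QCoh.pullSec_add _ M _)
    show _ = P (∑ i, c i • res M hWV (e i))
    rw [map_sum]
    refine Finset.sum_congr rfl fun i _ => ?_
    show _ = QCoh.pullSec (𝟙 X) M (le_refl W) (c i • res M hWV (e i))
    rw [QCoh.pullSec_smul]
    congr 1
    · simp only [Scheme.Hom.appLE, Scheme.Hom.id_app, Category.id_comp]
      exact (resR_self (c i)).symm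
    · rw [show res M hWV (e i) = M.presheaf.map (homOfLE hWV).op (e i) from rfl,
        ← ExistEasy.pullSec_res (𝟙 X) M hWV (le_refl W) (show W ≤ (𝟙 X) ⁻¹ᵁ V from hWV) (le_refl W) (e i)]
      simp
  rw [key] at h1
  exact (Function.Bijective.of_comp_iff' h2 _).1 h1

end Groth.Agent.PinchHom
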