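import Groth.Agent.PinchHom.Frame
import Groth.Agent.PinchPO.RS

/-!
# Morphisms of locally free modules on a pushout of ringed spaces
-/

universe u

set_option autoImplicit false
set_option linter.style.haveILetI false
set_option backward.isDefEq.respectTransparency false
set_option backward.isDefEq.respectTransparency.types false
set_option synthInstance.maxHeartbeats 400000

open CategoryTheory CategoryTheory.Limits AlgebraicGeometry TopologicalSpace Opposite

noncomputable section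

namespace Groth.Agent.PinchHom

open Groth.Agent.AModX

abbrev toRS : Scheme.{u} ⥤ SheafedSpace CommRingCat.{u} :=
  Scheme.forgetToLocallyRingedSpace ⋙ LocallyRingedSpace.forgetToSheafedSpace

variable {X Y Z T : Scheme.{u}} (fX : Z ⟶ X) (fY : Z ⟶ Y) (gX : X ⟶ T) (gY : Y ⟶ T) (hw : fX ≫ gX = fY ≫ gY)
  (hpo : IsPushout (toRS.map fX) (toRS.map fY) (toRS.map gX) (toRS.map gY))

include hpo in
theorem sec_ext {U : T.Opens} (s s' : Γ(T, U)) (hx : gX.app U s = gX.app U s') (hy : gY.app U s = gY.app U s') :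
    s = s' :=
  (PinchPO.isPushout_sections (hpo.map SheafedSpace.forgetToPresheafedSpace) U).1 s s' hx hy

include hpo in
theorem sec_exists {U : T.Opens} (x : Γ(X, gX ⁻¹ᵁ U)) (y : Γ(Y, gY ⁻¹ᵁ U))
    (he : fX ⁻¹ᵁ (gX ⁻¹ᵁ U) = fY ⁻¹ᵁ (gY ⁻¹ᵁ U))
    (h : fX.app _ x = Z.presheaf.map (eqToHom he).op (fY.app _ y)) :
    ∃ s : Γ(T, U), gX.app U s = x ∧ gY.app U s = y :=
  (PinchPO.isPushout_sections (hpo.map SheafedSpace.forgetToPresheafedSpace) U).2 x y he h

include hw in
theorem preimage_eq (V : T.Opens) : fX ⁻¹ᵁ (gX ⁻¹ᵁ V) = fY ⁻¹ᵁ (gY ⁻¹ᵁ V) := by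
  rw [← Scheme.Hom.comp_preimage, ← Scheme.Hom.comp_preimage, hw]

/-- Compatibility of a pair of sections of the inverse images. -/
def Compat (N : T.Modules) (V : T.Opens) (x : Γ((Scheme.Modules.pullback gX).obj N, gX ⁻¹ᵁ V))
    (y : Γ((Scheme.Modules.pullback gY).obj N, gY ⁻¹ᵁ V)) : Prop :=
  ((ExistEasy.squareIso hw).hom.app N).app (fX ⁻¹ᵁ (gX ⁻¹ᵁ V))
      (QCoh.pullSec fX ((Scheme.Modules.pullback gX).obj N) (le_refl _) x) =
    QCoh.pullSec fY ((Scheme.Modules.pullback gY).obj N) (preimage_eq fX fY gX gY hw V).le y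

theorem pullSec_res_full (φ : X ⟶ T) (N : T.Modules) {V V' : T.Opens} (h : V' ≤ V) (s : Γ(N, V)) :
    res _ ((Opens.map φ.base).monotone h) (QCoh.pullSec φ N (le_refl (φ ⁻¹ᵁ V)) s) =
      QCoh.pullSec φ N (le_refl (φ ⁻¹ᵁ V')) (res N h s) :=
  ExistEasy.pullSec_res φ N h ((Opens.map φ.base).monotone h) (le_refl _) (le_refl _) s

theorem IsNFrame.res' {X : Scheme.{u}} {M : X.Modules} {n : ℕ} {U V : X.Opens} {e : Fin n → Γ(M, U)}
    (he : IsNFrame e) (h : V ≤ U) : IsNFrame (fun i => res M h (e i)) := fun V' hV' => by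
  have : (fun c : Fin n → Γ(X, V') => ∑ i, c i • res M hV' (res M h (e i))) =
      fun c : Fin n → Γ(X, V') => ∑ i, c i • res M (hV'.trans h) (e i) :=
    funext fun c => Finset.sum_congr rfl fun i _ => by rw [res_res]
  rw [this]
  exact he V' _

theorem pullSec_comb {X' X : Scheme.{u}} (φ : X' ⟶ X) {M : X.Modules} {n : ℕ} {W : X'.Opens} {V : X.Opens}
    (hle : W ≤ φ ⁻¹ᵁ V) (c : Fin n → Γ(X, V)) (s : Fin n → Γ(M, V)) :
    QCoh.pullSec φ M hle (∑ i, c i • s i) = ∑ i, φ.appLE V W hle (c i) • QCoh.pullSec φ M hle (s i) := by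
  let P : Γ(M, V) →+ Γ((Scheme.Modules.pullback φ).obj M, W) :=
    AddMonoidHom.mk' (QCoh.pullSec φ M hle) (QCoh.pullSec_add _ M _)
  show P (∑ i, c i • s i) = _
  rw [map_sum]
  exact Finset.sum_congr rfl fun i _ => QCoh.pullSec_smul φ M hle (c i) (s i)

include hpo in
theorem pair_ext {N : T.Modules} (hN : FlatMod.IsFinLocFree N) {V : T.Opens} (s s' : Γ(N, V))
    (hx : QCoh.pullSec gX N (le_refl _) s = QCoh.pullSec gX N (le_refl _) s')
    (hy : QCoh.pullSec gY N (le_refl _) s = QCoh.pullSec gY N (le_refl _) s') : s = s' := by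
  refine eq_of_locally _ _ fun p hp => ?_
  obtain ⟨U, n, e, hpU, he⟩ := exists_nframe hN p
  refine ⟨V ⊓ U, inf_le_left, ⟨hp, hpU⟩, ?_⟩
  have hq := QCoh.isQCoh_of_isFinLocFree hN
  obtain ⟨c, hc⟩ := (he (V ⊓ U) inf_le_right).2 (res N inf_le_left s)
  obtain ⟨c', hc'⟩ := (he (V ⊓ U) inf_le_right).2 (res N inf_le_left s')
  simp only at hc hc'
  have key : ∀ {W : Scheme.{u}} (φ : W ⟶ T),
      QCoh.pullSec φ N (le_refl _) s = QCoh.pullSec φ N (le_refl _) s' →
      ∀ i, φ.app (V ⊓ U) (c i) = φ.app (V ⊓ U) (c' i) := by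
    intro W φ h i
    have h1 := congrArg (res _ ((Opens.map φ.base).monotone (inf_le_left : V ⊓ U ≤ V))) h
    rw [pullSec_res_full φ N (inf_le_left : V ⊓ U ≤ V), pullSec_res_full φ N (inf_le_left : V ⊓ U ≤ V),
      ← hc, ← hc', pullSec_comb, pullSec_comb] at h1
    have hb := (isNFrame_pullSec φ hq (he.res' (inf_le_right : V ⊓ U ≤ U)) (le_refl _) _ le_rfl).1
    have h2 := hb (a₁ := fun i => φ.appLE _ _ le_rfl (c i)) (a₂ := fun i => φ.appLE _ _ le_rfl (c' i))
      (by simpa only [res_self] using h1)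
    simpa only [Scheme.Hom.appLE, homOfLE_refl, op_id, CategoryTheory.Functor.map_id, Category.comp_id]
      using congrFun h2 i
  rw [← hc, ← hc']
  exact Finset.sum_congr rfl fun i _ => by
    rw [sec_ext fX fY gX gY hpo _ _ (key gX hx i) (key gY hy i)]

include hpo in
theorem pair_exists {N : T.Modules} (hN : FlatMod.IsFinLocFree N) {V : T.Opens}
    (x : Γ((Scheme.Modules.pullback gX).obj N, gX ⁻¹ᵁ V)) (y : Γ((Scheme.Modules.pullback gY).obj N, gY ⁻¹ᵁ V))
    (h : Compat fX fY gX gY hw N V x y) :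
    ∃ s : Γ(N, V), QCoh.pullSec gX N (le_refl _) s = x ∧ QCoh.pullSec gY N (le_refl _) s = y := by
  have hq := QCoh.isQCoh_of_isFinLocFree hN
  have loc : ∀ p : V, ∃ (V' : T.Opens) (hV' : V' ≤ V) (s : Γ(N, V')), p.1 ∈ V' ∧
      QCoh.pullSec gX N (le_refl _) s = res _ ((Opens.map gX.base).monotone hV') x ∧
      QCoh.pullSec gY N (le_refl _) s = res _ ((Opens.map gY.base).monotone hV') y := by
    intro p
    obtain ⟨U, n, e₀, hpU, he₀⟩ := exists_nframe hN p.1
    let e : Fin n → Γ(N, V ⊓ U) := fun i => res N inf_le_right (e₀ i)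
    have he : IsNFrame e := he₀.res' inf_le_right
    obtain ⟨a, ha⟩ := (isNFrame_pullSec gX hq he (le_refl _) _ le_rfl).2
      (res _ ((Opens.map gX.base).monotone (inf_le_left : V ⊓ U ≤ V)) x)
    obtain ⟨b, hb⟩ := (isNFrame_pullSec gY hq he (le_refl _) _ le_rfl).2
      (res _ ((Opens.map gY.base).monotone (inf_le_left : V ⊓ U ≤ V)) y)
    simp only [res_self] at ha hb
    let W' := fX ⁻¹ᵁ (gX ⁻¹ᵁ (V ⊓ U))
    have heW : W' ≤ fY ⁻¹ᵁ (gY ⁻¹ᵁ (V ⊓ U)) := (preimage_eq fX fY gX gY hw _).le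
    have hWW : W' ≤ fX ⁻¹ᵁ (gX ⁻¹ᵁ V) := (Opens.map fX.base).monotone ((Opens.map gX.base).monotone inf_le_left)
    have h1 := congrArg (res _ hWW) h
    rw [← app_res] at h1
    replace h1 : ((ExistEasy.squareIso hw).hom.app N).app W'
        (QCoh.pullSec fX ((Scheme.Modules.pullback gX).obj N) (le_refl W') (∑ i, a i • QCoh.pullSec gX N (le_refl _) (e i))) =
        QCoh.pullSec fY ((Scheme.Modules.pullback gY).obj N) heW (∑ i, b i • QCoh.pullSec gY N (le_refl _) (e i)) := by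
      rw [ha, hb]
      refine Eq.trans ?_ (h1.trans (ExistEasy.pullSec_res fY ((Scheme.Modules.pullback gY).obj N)
        ((Opens.map gY.base).monotone inf_le_left) hWW (preimage_eq fX fY gX gY hw V).le heW y))
      exact congrArg (((ExistEasy.squareIso hw).hom.app N).app W')
        (ExistEasy.pullSec_res fX ((Scheme.Modules.pullback gX).obj N)
          ((Opens.map gX.base).monotone inf_le_left) hWW (le_refl _) (le_refl _) x).symm
    rw [pullSec_comb, pullSec_comb] at h1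
    replace h1 := (map_sum _ _ _).symm.trans h1
    simp only [Scheme.Modules.Hom.app_smul,
      ExistEasy.squareIso_pullSec hw N (le_refl (gX ⁻¹ᵁ (V ⊓ U))) (le_refl W') (le_refl _) heW] at h1
    have hfr := (isNFrame_pullSec fY (QCoh.isQCoh_pullback gY hq)
      (isNFrame_pullSec gY hq he (le_refl _)) heW _ le_rfl).1
    have h2 := hfr (a₁ := fun i => fX.appLE _ W' le_rfl (a i)) (a₂ := fun i => fY.appLE _ W' heW (b i))
      (by simpa only [res_self] using h1)
    have hsec : ∀ i, ∃ t : Γ(T, V ⊓ U), gX.app _ t = a i ∧ gY.app _ t = b i := fun i =>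
      sec_exists fX fY gX gY hpo (a i) (b i) (preimage_eq fX fY gX gY hw _) (by
        have h3 := congrFun h2 i
        rw [← Scheme.Hom.app_eq_appLE] at h3
        exact h3.trans (by rw [Scheme.Hom.appLE, CommRingCat.comp_apply]; rfl))
    choose t htX htY using hsec
    refine ⟨V ⊓ U, inf_le_left, ∑ i, t i • e i, ⟨p.2, hpU⟩, ?_, ?_⟩
    · rw [pullSec_comb, ← ha]
      exact Finset.sum_congr rfl fun i _ => by rw [← Scheme.Hom.app_eq_appLE, htX]
    · rw [pullSec_comb, ← hb]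
      exact Finset.sum_congr rfl fun i _ => by rw [← Scheme.Hom.app_eq_appLE, htY]
  choose V' hV' s hmem hsX hsY using loc
  obtain ⟨t, ht, -⟩ := existsUnique_glue (M := N) V' hV' (fun p hp => ⟨⟨p, hp⟩, hmem _⟩) s fun p q => by
    refine pair_ext fX fY gX gY hpo hN _ _ ?_ ?_
    · rw [← pullSec_res_full, ← pullSec_res_full, hsX, hsX, res_res, res_res]
    · rw [← pullSec_res_full, ← pullSec_res_full, hsY, hsY, res_res, res_res]
  refine ⟨t, ?_, ?_⟩
  · refine eq_of_locally _ _ fun q hq' => ⟨gX ⁻¹ᵁ (V' ⟨gX q, hq'⟩), (Opens.map gX.base).monotone (hV' _), hmem _, ?_⟩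
    rw [pullSec_res_full gX N (hV' _), ht, hsX]
  · refine eq_of_locally _ _ fun q hq' => ⟨gY ⁻¹ᵁ (V' ⟨gY q, hq'⟩), (Opens.map gY.base).monotone (hV' _), hmem _, ?_⟩
    rw [pullSec_res_full gY N (hV' _), ht, hsY]

include hpo in
theorem faithful {M N : T.Modules} (hN : FlatMod.IsFinLocFree N) (φ ψ : M ⟶ N)
    (hx : (Scheme.Modules.pullback gX).map φ = (Scheme.Modules.pullback gX).map ψ)
    (hy : (Scheme.Modules.pullback gY).map φ = (Scheme.Modules.pullback gY).map ψ) : φ = ψ := by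
  refine Scheme.Modules.hom_ext _ _ fun V => ?_
  ext s
  refine pair_ext fX fY gX gY hpo hN _ _ ?_ ?_
  · rw [← ExistEasy.pullSec_natural, ← ExistEasy.pullSec_natural, hx]
  · rw [← ExistEasy.pullSec_natural, ← ExistEasy.pullSec_natural, hy]

/-- A morphism of inverse images is determined by the pulled back sections. -/
theorem hom_ext_pull {W : Scheme.{u}} (g : W ⟶ T) {M : T.Modules} {P : W.Modules} (hM : FlatMod.IsFinLocFree M)
    (a b : (Scheme.Modules.pullback g).obj M ⟶ P)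
    (h : ∀ (V : T.Opens) (s : Γ(M, V)), a.app _ (QCoh.pullSec g M (le_refl (g ⁻¹ᵁ V)) s) =
      b.app _ (QCoh.pullSec g M (le_refl (g ⁻¹ᵁ V)) s)) : a = b := by
  refine Scheme.Modules.hom_ext _ _ fun U' => ?_
  ext z
  refine eq_of_locally _ _ fun p hp => ?_
  obtain ⟨U, n, e, hpU, he⟩ := exists_nframe hM (g p)
  refine ⟨U' ⊓ g ⁻¹ᵁ U, inf_le_left, ⟨hp, hpU⟩, ?_⟩
  obtain ⟨c, hc⟩ := (isNFrame_pullSec g (QCoh.isQCoh_of_isFinLocFree hM) he (le_refl _) (U' ⊓ g ⁻¹ᵁ U) inf_le_right).2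
    (res _ inf_le_left z)
  rw [← app_res, ← app_res, ← hc, map_sum, map_sum]
  refine Finset.sum_congr rfl fun i _ => ?_
  rw [Scheme.Modules.Hom.app_smul, Scheme.Modules.Hom.app_smul, app_res, app_res, h U (e i)]

include hw hpo in
theorem full {M N : T.Modules} (hM : FlatMod.IsFinLocFree M) (hN : FlatMod.IsFinLocFree N)
    (a : (Scheme.Modules.pullback gX).obj M ⟶ (Scheme.Modules.pullback gX).obj N)
    (b : (Scheme.Modules.pullback gY).obj M ⟶ (Scheme.Modules.pullback gY).obj N)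
    (hab : (Scheme.Modules.pullback fX).map a ≫ (ExistEasy.squareIso hw).hom.app N =
      (ExistEasy.squareIso hw).hom.app M ≫ (Scheme.Modules.pullback fY).map b) :
    ∃ φ : M ⟶ N, (Scheme.Modules.pullback gX).map φ = a ∧ (Scheme.Modules.pullback gY).map φ = b := by
  have hcompat : ∀ (V : T.Opens) (s : Γ(M, V)), Compat fX fY gX gY hw N V
      (a.app _ (QCoh.pullSec gX M (le_refl _) s)) (b.app _ (QCoh.pullSec gY M (le_refl _) s)) := by
    intro V s
    unfold Compat
    rw [← ExistEasy.pullSec_natural fX a, ← ExistEasy.pullSec_natural fY b,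
      ← ExistEasy.squareIso_pullSec hw M (le_refl (gX ⁻¹ᵁ V)) (le_refl (fX ⁻¹ᵁ (gX ⁻¹ᵁ V))) (le_refl _)
        (preimage_eq fX fY gX gY hw V).le s]
    exact congr(($hab).app _ _)
  choose t htX htY using fun (V : T.Opens) (s : Γ(M, V)) => pair_exists fX fY gX gY hw hpo hN _ _ (hcompat V s)
  have uniq : ∀ {V : T.Opens} {s : Γ(M, V)} {u : Γ(N, V)},
      QCoh.pullSec gX N (le_refl _) u = a.app _ (QCoh.pullSec gX M (le_refl _) s) →
      QCoh.pullSec gY N (le_refl _) u = b.app _ (QCoh.pullSec gY M (le_refl _) s) → t V s = u :=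
    fun h1 h2 => pair_ext fX fY gX gY hpo hN _ _ ((htX _ _).trans h1.symm) ((htY _ _).trans h2.symm)
  have hsmul : ∀ (V : T.Opens) (r : Γ(T, V)) (x : Γ(M, V)), t V (r • x) = r • t V x := fun V r x => uniq
    (by rw [QCoh.pullSec_smul, htX, QCoh.pullSec_smul, Scheme.Modules.Hom.app_smul])
    (by rw [QCoh.pullSec_smul, htY, QCoh.pullSec_smul, Scheme.Modules.Hom.app_smul])
  let φ : M ⟶ N :=
    { val := PresheafOfModules.homMk
        { app := fun V => AddCommGrpCat.ofHom (AddMonoidHom.mk' (t V.unop) fun x x' => uniq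
            (by rw [QCoh.pullSec_add, htX, htX, QCoh.pullSec_add, map_add])
            (by rw [QCoh.pullSec_add, htY, htY, QCoh.pullSec_add, map_add]))
          naturality := fun V W i => by
            ext x
            exact uniq (V := W.unop) (s := res M i.unop.le x) (u := res N i.unop.le (t V.unop x))
              (by rw [← pullSec_res_full, htX, ← pullSec_res_full, ← app_res])
              (by rw [← pullSec_res_full, htY, ← pullSec_res_full, ← app_res]) }
        fun V r x => hsmul V.unop r x }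
  refine ⟨φ, hom_ext_pull gX hM _ _ fun V s => ?_, hom_ext_pull gY hM _ _ fun V s => ?_⟩
  · rw [ExistEasy.pullSec_natural]
    exact htX V s
  · rw [ExistEasy.pullSec_natural]
    exact htY V s

end Groth.Agent.PinchHom
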